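import Cfsg.Agent.H960.KGV.Core
import Cfsg.Agent.GpLn.Rank
import Cfsg.Agent.Omega.EH3.Clif.Iso

/-!
# k(G) < |V|: Clifford's theorem for a primitive group (helper150, task 2305 of helper960)

* `semisimple` : Maschke for `alg M`;
* `cs_mem` : the isotypic components are permuted by the normalizer;
* `clifford` : a normal subgroup of a primitive group acts isotypically.
-/

set_option autoImplicit false

namespace Cfsg.Agent.H150.KGV

open Cfsg.Agent.H960.KGV Cfsg.Agent.Omega.EH3.Clif Module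

section comp

variable {V : Type*} [AddCommGroup V] {R : Type*} [Ring R] [Module R V]

theorem cs_comp_le (g : V ≃+ V) (hg : Nor R g) (S : Submodule R V) :
    cs g hg (isotypicComponent R V S) ≤ isotypicComponent R V (cs g hg S) := by
  have h1 : cs g hg (isotypicComponent R V S) = csIso g hg (sSup {m | Nonempty (m ≃ₗ[R] S)}) := rfl
  rw [h1, OrderIso.map_sSup]
  apply iSup₂_le
  rintro m ⟨φ⟩
  exact le_sSup ⟨ctEquiv g hg φ⟩

theorem cs_comp (g : V ≃+ V) (hg : Nor R g) (S : Submodule R V) :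
    cs g hg (isotypicComponent R V S) = isotypicComponent R V (cs g hg S) := by
  apply le_antisymm (cs_comp_le g hg S)
  have h1 := cs_mono hg (cs_comp_le g.symm hg.symm (cs g hg S))
  have h2 := cs_cs_symm hg (isotypicComponent R V (cs g hg S))
  rw [h2] at h1
  have h3 : cs g.symm hg.symm (cs g hg S) = S := cs_symm_cs hg S
  rw [h3] at h1
  exact h1

theorem cs_mem (g : V ≃+ V) (hg : Nor R g) {c : Submodule R V} (hc : c ∈ isotypicComponents R V) :
    cs g hg c ∈ isotypicComponents R V := by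
  obtain ⟨S, hS, rfl⟩ := hc
  exact ⟨cs g hg S, cs_simple hg hS, cs_comp g hg S⟩

end comp

variable {p : ℕ} [Fact p.Prime] {V : Type} [AddCommGroup V] [Module (ZMod p) V]

/-- the elements of the group in the algebra -/
def toAlg {M : Subgroup (V ≃ₗ[ZMod p] V)} {n : V ≃ₗ[ZMod p] V} (hn : n ∈ M) : alg M :=
  ⟨(n : V →ₗ[ZMod p] V), Algebra.subset_adjoin ⟨n, hn, rfl⟩⟩

theorem toAlg_smul {M : Subgroup (V ≃ₗ[ZMod p] V)} {n : V ≃ₗ[ZMod p] V} (hn : n ∈ M) (v : V) :
    toAlg hn • v = n v := rfl

theorem smul_eq {M : Subgroup (V ≃ₗ[ZMod p] V)} (r : alg M) (v : V) : r • v = (r : Module.End (ZMod p) V) v := rfl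

theorem alg_inv {M : Subgroup (V ≃ₗ[ZMod p] V)} {W : Submodule (ZMod p) V} (hW : ∀ n ∈ M, ∀ w ∈ W, n w ∈ W)
    {r : Module.End (ZMod p) V} (hr : r ∈ alg M) : ∀ w ∈ W, r w ∈ W := by
  induction hr using Algebra.adjoin_induction with
  | mem x hx =>
    obtain ⟨n, hn, rfl⟩ := hx
    exact hW n hn
  | algebraMap c =>
    intro w hw
    rw [Module.algebraMap_end_apply]
    exact W.smul_mem _ hw
  | add x y _ _ hx hy =>
    intro w hw
    rw [LinearMap.add_apply]
    exact W.add_mem (hx w hw) (hy w hw)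
  | mul x y _ _ hx hy =>
    intro w hw
    exact hx _ (hy w hw)

/-- invariant subspaces are submodules -/
def ofInv {M : Subgroup (V ≃ₗ[ZMod p] V)} (W : Submodule (ZMod p) V) (hW : ∀ n ∈ M, ∀ w ∈ W, n w ∈ W) :
    Submodule (alg M) V where
  carrier := W
  add_mem' := W.add_mem
  zero_mem' := W.zero_mem
  smul_mem' r _ hw := alg_inv hW r.2 _ hw

theorem ofInv_restrict {M : Subgroup (V ≃ₗ[ZMod p] V)} (W : Submodule (ZMod p) V)
    (hW : ∀ n ∈ M, ∀ w ∈ W, n w ∈ W) : (ofInv W hW).restrictScalars (ZMod p) = W := rfl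

/-- **Maschke** -/
theorem semisimple (M : Subgroup (V ≃ₗ[ZMod p] V)) [Finite M] (hM : ¬ p ∣ Nat.card M) :
    IsSemisimpleModule (alg M) V := by
  rw [isSemisimpleModule_iff]
  constructor
  intro U
  let φ : M →* (V →ₗ[ZMod p] V) :=
    { toFun := fun n => ((n : V ≃ₗ[ZMod p] V) : V →ₗ[ZMod p] V)
      map_one' := rfl
      map_mul' := fun _ _ => rfl }
  have hc : (Nat.card M : ZMod p) ≠ 0 := by
    intro h
    exact hM ((ZMod.natCast_eq_zero_iff _ _).1 h)
  obtain ⟨W', hW', hc'⟩ := GpLn.Rank.exists_compl φ hc (U.restrictScalars (ZMod p))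
    (fun n w hw => U.smul_mem (toAlg n.2) hw)
  refine ⟨ofInv W' (fun n hn w hw => hW' ⟨n, hn⟩ w hw), ?_⟩
  rw [← Submodule.isCompl_restrictScalars_iff (S := ZMod p)]
  exact hc'

theorem conj_mem {M : Subgroup (V ≃ₗ[ZMod p] V)} {g : V ≃ₗ[ZMod p] V} (hg : ∀ n ∈ M, g⁻¹ * n * g ∈ M)
    {r : Module.End (ZMod p) V} (hr : r ∈ alg M) :
    (g.symm : V →ₗ[ZMod p] V) ∘ₗ r ∘ₗ (g : V →ₗ[ZMod p] V) ∈ alg M := by
  induction hr using Algebra.adjoin_induction with
  | mem x hx =>
    obtain ⟨n, hn, rfl⟩ := hx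
    exact Algebra.subset_adjoin ⟨g⁻¹ * n * g, hg n hn, rfl⟩
  | algebraMap c =>
    have h : (g.symm : V →ₗ[ZMod p] V) ∘ₗ (algebraMap (ZMod p) (Module.End (ZMod p) V) c) ∘ₗ
        (g : V →ₗ[ZMod p] V) = algebraMap (ZMod p) (Module.End (ZMod p) V) c := by
      ext v
      simp [Module.algebraMap_end_apply]
    rw [h]
    exact Subalgebra.algebraMap_mem _ _
  | add x y _ _ hx hy =>
    have h : (g.symm : V →ₗ[ZMod p] V) ∘ₗ (x + y) ∘ₗ (g : V →ₗ[ZMod p] V) =
        (g.symm : V →ₗ[ZMod p] V) ∘ₗ x ∘ₗ (g : V →ₗ[ZMod p] V) +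
        (g.symm : V →ₗ[ZMod p] V) ∘ₗ y ∘ₗ (g : V →ₗ[ZMod p] V) := by
      ext v
      simp
    rw [h]
    exact add_mem hx hy
  | mul x y _ _ hx hy =>
    have h : (g.symm : V →ₗ[ZMod p] V) ∘ₗ (x * y) ∘ₗ (g : V →ₗ[ZMod p] V) =
        ((g.symm : V →ₗ[ZMod p] V) ∘ₗ x ∘ₗ (g : V →ₗ[ZMod p] V)) *
        ((g.symm : V →ₗ[ZMod p] V) ∘ₗ y ∘ₗ (g : V →ₗ[ZMod p] V)) := by
      ext v
      simp
    rw [h]
    exact mul_mem hx hy

/-- normalizing elements -/
theorem nor_of {M : Subgroup (V ≃ₗ[ZMod p] V)} {g : V ≃ₗ[ZMod p] V} (hg : ∀ n ∈ M, g⁻¹ * n * g ∈ M)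
    (hg' : ∀ n ∈ M, g * n * g⁻¹ ∈ M) : Nor (alg M) g.toAddEquiv := by
  constructor
  · intro r
    refine ⟨⟨_, conj_mem hg r.2⟩, fun v => ?_⟩
    show (r : Module.End (ZMod p) V) (g v) = g (g.symm ((r : Module.End (ZMod p) V) (g v)))
    rw [g.apply_symm_apply]
  · intro r
    have h : ∀ n ∈ M, (g⁻¹)⁻¹ * n * g⁻¹ ∈ M := by
      intro n hn
      rw [inv_inv]
      exact hg' n hn
    refine ⟨⟨_, conj_mem h r.2⟩, fun v => ?_⟩
    show (r : Module.End (ZMod p) V) (g.symm v) = g.symm (g ((r : Module.End (ZMod p) V) (g.symm v)))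
    rw [g.symm_apply_apply]

variable [Finite V]

/-- **Clifford's theorem for a primitive group** -/
theorem clifford [Nontrivial V] (H : Subgroup (V ≃ₗ[ZMod p] V)) (hH : ¬ p ∣ Nat.card H) (hP : Prim H)
    (N : Subgroup H) (hN : N.Normal) :
    IsSemisimpleModule (alg (N.map H.subtype)) V ∧ IsIsotypic (alg (N.map H.subtype)) V := by
  have hfin : Finite (V ≃ₗ[ZMod p] V) := Finite.of_injective (fun e : V ≃ₗ[ZMod p] V => (e : V → V)) DFunLike.coe_injective
  have hcard : Nat.card (N.map H.subtype) ∣ Nat.card H := by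
    have h1 : N.map H.subtype ≤ H := by
      rintro _ ⟨x, -, rfl⟩
      exact x.2
    exact Subgroup.card_dvd_of_le h1
  have hss : IsSemisimpleModule (alg (N.map H.subtype)) V := semisimple _ (fun h => hH (h.trans hcard))
  refine ⟨hss, ?_⟩
  have hcf : Finite (isotypicComponents (alg (N.map H.subtype)) V) := Subtype.finite
  set c := Nat.card (isotypicComponents (alg (N.map H.subtype)) V) with hc
  let e : isotypicComponents (alg (N.map H.subtype)) V ≃ Fin c := Finite.equivFin _
  let W : Fin c → Submodule (ZMod p) V := fun i =>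
    ((e.symm i : isotypicComponents (alg (N.map H.subtype)) V) : Submodule (alg (N.map H.subtype)) V).restrictScalars
      (ZMod p)
  have hblk : Blk H W := by
    refine ⟨?_, ?_, ?_, ?_⟩
    · have h1 : iSupIndep (fun c : isotypicComponents (alg (N.map H.subtype)) V =>
          (c : Submodule (alg (N.map H.subtype)) V)) := by
        rw [← sSupIndep_iff]
        exact sSupIndep_isotypicComponents _ V
      intro i
      have h2 := h1 (e.symm i)
      have h3 : (⨆ (j : Fin c) (_ : j ≠ i), W j) = (⨆ (j : isotypicComponents (alg (N.map H.subtype)) V)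
          (_ : j ≠ e.symm i), (j : Submodule (alg (N.map H.subtype)) V)).restrictScalars (ZMod p) := by
        rw [Submodule.restrictScalars_iSup]
        apply le_antisymm
        · refine iSup₂_le fun j hj => ?_
          refine le_iSup_of_le (e.symm j) ?_
          rw [Submodule.restrictScalars_iSup]
          exact le_iSup_of_le (fun h => hj (e.symm.injective h)) le_rfl
        · refine iSup_le fun j => ?_
          rw [Submodule.restrictScalars_iSup]
          refine iSup_le fun hj => ?_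
          refine le_iSup₂_of_le (e j) (fun h => hj (by rw [← h, e.symm_apply_apply])) ?_
          show _ ≤ ((e.symm (e j) : isotypicComponents (alg (N.map H.subtype)) V) :
            Submodule (alg (N.map H.subtype)) V).restrictScalars (ZMod p)
          rw [e.symm_apply_apply]
      rw [h3]
      exact (Submodule.disjoint_restrictScalars_iff (ZMod p)).2 h2
    · have h1 : (⨆ c : isotypicComponents (alg (N.map H.subtype)) V,
          (c : Submodule (alg (N.map H.subtype)) V)) = ⊤ := by
        rw [← sSup_eq_iSup', sSup_isotypicComponents]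
      have h2 : iSup W = (⨆ c : isotypicComponents (alg (N.map H.subtype)) V,
          (c : Submodule (alg (N.map H.subtype)) V)).restrictScalars (ZMod p) := by
        rw [Submodule.restrictScalars_iSup]
        exact e.symm.iSup_comp (g := fun c : isotypicComponents (alg (N.map H.subtype)) V =>
          (c : Submodule (alg (N.map H.subtype)) V).restrictScalars (ZMod p))
      rw [h2, h1, Submodule.restrictScalars_top]
    · intro i h
      have h1 := bot_lt_isotypicComponents (e.symm i).2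
      rw [Submodule.restrictScalars_eq_bot_iff] at h
      exact h1.ne' h
    · intro g hg i
      have h1 : ∀ n ∈ N.map H.subtype, g⁻¹ * n * g ∈ N.map H.subtype := by
        rintro _ ⟨n, hn, rfl⟩
        have := hN.conj_mem n hn ⟨g⁻¹, inv_mem hg⟩
        refine ⟨_, this, ?_⟩
        simp
      have h2 : ∀ n ∈ N.map H.subtype, g * n * g⁻¹ ∈ N.map H.subtype := by
        rintro _ ⟨n, hn, rfl⟩
        have := hN.conj_mem n hn ⟨g, hg⟩
        exact ⟨_, this, rfl⟩
      have h3 := nor_of h1 h2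
      refine ⟨e ⟨cs g.toAddEquiv h3 _, cs_mem g.toAddEquiv h3 (e.symm i).2⟩, ?_⟩
      show _ = ((e.symm (e _) : isotypicComponents (alg (N.map H.subtype)) V) :
        Submodule (alg (N.map H.subtype)) V).restrictScalars (ZMod p)
      rw [e.symm_apply_apply]
      ext v
      constructor
      · rintro ⟨w, hw, rfl⟩
        exact (apply_mem_cs (g := g.toAddEquiv) (hg := h3)).2 hw
      · intro hv
        exact ⟨g.symm v, hv, g.apply_symm_apply v⟩
  have hc1 := hP c W hblk
  -- one component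
  have h1 : (⨆ c : isotypicComponents (alg (N.map H.subtype)) V,
      (c : Submodule (alg (N.map H.subtype)) V)) = ⊤ := by
    rw [← sSup_eq_iSup', sSup_isotypicComponents]
  have hsub : Subsingleton (isotypicComponents (alg (N.map H.subtype)) V) := by
    rw [← Finite.card_le_one_iff_subsingleton]
    exact hc1
  intro S hS
  let d : isotypicComponents (alg (N.map H.subtype)) V := ⟨isotypicComponent _ V S, ⟨S, hS, rfl⟩⟩
  have h2 : isotypicComponent (alg (N.map H.subtype)) V S = ⊤ := by
    rw [eq_top_iff, ← h1]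
    refine iSup_le fun c => ?_
    rw [Subsingleton.elim c d]
  exact IsIsotypicOfType.of_isotypicComponent_eq_top h2

end Cfsg.Agent.H150.KGV
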